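import Mathlib
import Cfsg.Prelude.Def_SporCoxeter

/-! Coxeter-type presentations of the Janko group `J₁` (on five involutions `a, b, c, d, e` with
diagram `a -3- b -5- c -3- d -5- e`, the first four generating `L₂(11)`) and of the Mathieu group
`M₁₁` (on `a, b, c, d` generating `S₅` and a fifth involution `e`), together with their parabolic
sub-presentations. -/

set_option autoImplicit false

namespace Cfsg.Agent.Helper17.SmallSpor

namespace J1P

inductive Gen
  | a
  | b
  | c
  | d
  | e
  deriving DecidableEq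

abbrev a : FreeGroup Gen := FreeGroup.of Gen.a
abbrev b : FreeGroup Gen := FreeGroup.of Gen.b
abbrev c : FreeGroup Gen := FreeGroup.of Gen.c
abbrev d : FreeGroup Gen := FreeGroup.of Gen.d
abbrev e : FreeGroup Gen := FreeGroup.of Gen.e

def edges : List (Gen × ℕ × Gen) :=
  [(.a, 3, .b), (.b, 5, .c), (.c, 3, .d), (.d, 5, .e)]

def extra : List (FreeGroup Gen) := [
  (a * b * c) ^ 5,
  (b * c * d) ^ 5,
  a * c * d * c * e * d * c * e * d * c * e * d * e * c * d * e ]

end J1P

namespace J1Q1

inductive Gen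
  | a
  | b
  | c
  | d
  deriving DecidableEq

abbrev a : FreeGroup Gen := FreeGroup.of Gen.a
abbrev b : FreeGroup Gen := FreeGroup.of Gen.b
abbrev c : FreeGroup Gen := FreeGroup.of Gen.c
abbrev d : FreeGroup Gen := FreeGroup.of Gen.d

def edges : List (Gen × ℕ × Gen) :=
  [(.a, 3, .b), (.b, 5, .c), (.c, 3, .d)]

def extra : List (FreeGroup Gen) := [
  (a * b * c) ^ 5,
  (b * c * d) ^ 5 ]

end J1Q1

namespace J1Q2

inductive Gen
  | a
  | b
  | c
  deriving DecidableEq

abbrev a : FreeGroup Gen := FreeGroup.of Gen.a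
abbrev b : FreeGroup Gen := FreeGroup.of Gen.b
abbrev c : FreeGroup Gen := FreeGroup.of Gen.c

def edges : List (Gen × ℕ × Gen) :=
  [(.a, 3, .b), (.b, 5, .c)]

def extra : List (FreeGroup Gen) := [
  (a * b * c) ^ 5 ]

end J1Q2

namespace J1Q3

inductive Gen
  | a
  | b
  deriving DecidableEq

abbrev a : FreeGroup Gen := FreeGroup.of Gen.a
abbrev b : FreeGroup Gen := FreeGroup.of Gen.b

def edges : List (Gen × ℕ × Gen) :=
  [(.a, 3, .b)]

def extra : List (FreeGroup Gen) := []

end J1Q3

namespace M11P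

inductive Gen
  | a
  | b
  | c
  | d
  | e
  deriving DecidableEq

abbrev a : FreeGroup Gen := FreeGroup.of Gen.a
abbrev b : FreeGroup Gen := FreeGroup.of Gen.b
abbrev c : FreeGroup Gen := FreeGroup.of Gen.c
abbrev d : FreeGroup Gen := FreeGroup.of Gen.d
abbrev e : FreeGroup Gen := FreeGroup.of Gen.e

def edges : List (Gen × ℕ × Gen) :=
  [(.a, 3, .b), (.b, 3, .c), (.c, 3, .d), (.a, 3, .e), (.b, 4, .e), (.c, 5, .e)]

def extra : List (FreeGroup Gen) := [
  b * d * e * c * b * d * c * d * c * d * b * c * e,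
  a * b * d * c * b * e * a * c * e * b * c * b * a * e ]

end M11P

namespace M11Q1

inductive Gen
  | a
  | b
  | c
  | d
  deriving DecidableEq

abbrev a : FreeGroup Gen := FreeGroup.of Gen.a
abbrev b : FreeGroup Gen := FreeGroup.of Gen.b
abbrev c : FreeGroup Gen := FreeGroup.of Gen.c
abbrev d : FreeGroup Gen := FreeGroup.of Gen.d

def edges : List (Gen × ℕ × Gen) :=
  [(.a, 3, .b), (.b, 3, .c), (.c, 3, .d)]

def extra : List (FreeGroup Gen) := []

end M11Q1

namespace M11Q2

inductive Gen
  | a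
  | b
  | c
  deriving DecidableEq

abbrev a : FreeGroup Gen := FreeGroup.of Gen.a
abbrev b : FreeGroup Gen := FreeGroup.of Gen.b
abbrev c : FreeGroup Gen := FreeGroup.of Gen.c

def edges : List (Gen × ℕ × Gen) :=
  [(.a, 3, .b), (.b, 3, .c)]

def extra : List (FreeGroup Gen) := []

end M11Q2

namespace M11Q3

inductive Gen
  | a
  | b
  deriving DecidableEq

abbrev a : FreeGroup Gen := FreeGroup.of Gen.a
abbrev b : FreeGroup Gen := FreeGroup.of Gen.b

def edges : List (Gen × ℕ × Gen) :=
  [(.a, 3, .b)]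

def extra : List (FreeGroup Gen) := []

end M11Q3

end Cfsg.Agent.Helper17.SmallSpor
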